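import Groth.Agent.Lib.CartanRel21.Basic
import Groth.Agent.Lib.MTExt21.BaseChange
import Groth.Agent.Lib.SpreadSub19.Basic

/-!
# Base change of Cartan subgroups
-/

set_option autoImplicit false
set_option linter.style.haveILetI false
set_option linter.unusedSectionVars false
set_option backward.isDefEq.respectTransparency.types false

universe u

open CategoryTheory Limits MonoidalCategory CartesianMonoidalCategory MonObj AlgebraicGeometry

noncomputable section

namespace Groth.Agent.CartanT21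

variable {S : Scheme.{u}}

/-- Centralisers are transported by isomorphisms. -/
theorem isCentralizerOf_iso {G G' C C' T T' : Over S} [GrpObj G] [GrpObj G'] [GrpObj C] [GrpObj C'] [GrpObj T]
    [GrpObj T'] {i : T ⟶ G} {c : C ⟶ G} (h : Red.IsCentralizerOf i c) (eG : G' ≅ G) [IsMonHom eG.hom]
    (eC : C' ≅ C) (eT : T' ≅ T) (i' : T' ⟶ G') (c' : C' ⟶ G') [IsMonHom c'] [Mono c']
    (hi : i' ≫ eG.hom = eT.hom ≫ i) (hc : c' ≫ eG.hom = eC.hom ≫ c) : Red.IsCentralizerOf i' c' := by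
  refine ⟨‹_›, ‹_›, fun X g => ⟨?_, fun hg => ?_⟩⟩
  · rintro ⟨z, rfl⟩ X' x a
    have h1 := (h.2.2 X ((z ≫ eC.hom) ≫ c)).1 ⟨z ≫ eC.hom, rfl⟩ X' x (a ≫ eT.hom)
    refine (cancel_mono eG.hom).1 ?_
    rw [MonObj.mul_comp, MonObj.mul_comp]
    simpa only [Category.assoc, hi, hc] using h1
  · obtain ⟨z, hz⟩ := (h.2.2 X (g ≫ eG.hom)).2 fun X' x a => by
      have h1 := congrArg (· ≫ eG.hom) (hg X' x (a ≫ eT.inv))
      simpa only [MonObj.mul_comp, Category.assoc, hi, Iso.inv_hom_id_assoc] using h1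
    refine ⟨z ≫ eC.inv, (cancel_mono eG.hom).1 ?_⟩
    rw [Category.assoc, hc, Category.assoc, Iso.inv_hom_id_assoc, hz]

/-- The base change of a Cartan subgroup is a Cartan subgroup. -/
theorem isCartan_bc {G C : Over S} [GrpObj G] [GrpObj C] [LocallyOfFiniteType G.hom] {c : C ⟶ G}
    (hc : SGA3x.IsCartan c) {S' : Scheme.{u}} (f : S' ⟶ S) :
    SGA3x.IsCartan ((Over.pullback f).map c) := by
  haveI := hc.1
  haveI := hc.2.1
  haveI := MTRigid29.isMonHom_map c f
  refine ⟨inferInstance, Functor.map_mono _ _, MorphismProperty.pullback_snd C.hom f hc.2.2.1, fun t => ?_⟩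
  let k := Red.geomPt t
  haveI := MTRigid29.isMonHom_map ((Over.pullback f).map c) k
  obtain ⟨s, a, -, ha⟩ := MTExt21.exists_factor_geomPt (k ≫ f)
  letI := a.toAlgebra
  let φ : Spec (CommRingCat.of (AlgebraicClosure (S'.residueField t))) ⟶
      Spec (CommRingCat.of (AlgebraicClosure (S.residueField s))) := Spec.map (CommRingCat.ofHom a)
  obtain ⟨-, -, T₀, _, i₀, hT₀, hC₀⟩ := hc.2.2.2 s
  haveI : LocallyOfFiniteType (Red.bc (Red.geomPt s) G).hom :=
    inferInstanceAs (LocallyOfFiniteType (pullback.snd G.hom (Red.geomPt s)))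
  haveI : LocallyOfFiniteType (Red.bc φ (Red.bc (Red.geomPt s) G)).hom :=
    inferInstanceAs (LocallyOfFiniteType (pullback.snd (Red.bc (Red.geomPt s) G).hom φ))
  haveI := hT₀.1
  haveI := MTRigid29.isMonHom_map i₀ φ
  haveI := SpreadSub19.bcComp_isMonHom (Red.geomPt s) φ (c := k ≫ f) ha.symm G
  haveI := SpreadSub19.bcComp_isMonHom f k (c := k ≫ f) rfl G
  let B₁ := SpreadSub19.bcComp (Red.geomPt s) φ (c := k ≫ f) ha.symm G
  let B₂ := SpreadSub19.bcComp f k (c := k ≫ f) rfl G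
  let D₁ := SpreadSub19.bcComp (Red.geomPt s) φ (c := k ≫ f) ha.symm C
  let D₂ := SpreadSub19.bcComp f k (c := k ≫ f) rfl C
  let E : Red.bc k (Red.bc f G) ≅ Red.bc φ (Red.bc (Red.geomPt s) G) := B₂ ≪≫ B₁.symm
  haveI : IsMonHom E.hom := inferInstanceAs (IsMonHom (B₂.hom ≫ B₁.inv))
  haveI : IsMonHom E.inv := inferInstanceAs (IsMonHom (B₁.hom ≫ B₂.inv))
  have hi : ((Over.pullback φ).map i₀ ≫ E.inv) ≫ E.hom = (Iso.refl _).hom ≫ (Over.pullback φ).map i₀ := by simp
  have hC := CartanRel21.isCentralizerOf_bc hC₀ φ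
  refine ⟨inferInstance, Functor.map_mono _ _, Red.bc φ T₀, inferInstance, (Over.pullback φ).map i₀ ≫ E.inv, ?_, ?_⟩
  · haveI : IsMonHom (Iso.refl (Red.bc φ T₀)).hom := inferInstanceAs (IsMonHom (𝟙 (Red.bc φ T₀)))
    exact AttrBorel21.isMaximalTorus_of_isMaxTorus
      (MTExt21.isMaxTorus_transfer (MTExt21.isMaxTorus_anyPt hT₀ φ) (Iso.refl (Red.bc φ T₀)) E _ hi)
  · refine isCentralizerOf_iso hC E (D₂ ≪≫ D₁.symm) (Iso.refl _) _ _ hi ?_
    rw [← cancel_mono B₁.hom]
    simp only [E, Iso.trans_hom, Iso.symm_hom, Category.assoc, Iso.inv_hom_id, Category.comp_id]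
    rw [SpreadSub19.bcComp_natural f k rfl c, SpreadSub19.bcComp_natural (Red.geomPt s) φ ha.symm c,
      Iso.inv_hom_id_assoc]

end Groth.Agent.CartanT21
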