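import Groth.Agent.Lib.CartanT21.Local
import Groth.Agent.Lib.CartanT21.BaseChange
import Groth.Agent.Lib.MTDesc21.MaxMT

/-!
# A Cartan subgroup is the centraliser of a maximal torus
-/

set_option autoImplicit false
set_option linter.style.haveILetI false
set_option linter.unusedSectionVars false
set_option backward.isDefEq.respectTransparency.types false

universe u

open CategoryTheory Limits MonoidalCategory CartesianMonoidalCategory MonObj AlgebraicGeometry

noncomputable section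

namespace Groth.Agent.CartanT21

open DiagGL MTRigid29

variable {S : Scheme.{u}} {G C : Over S} [GrpObj G] [GrpObj C]

/-- A maximal torus lying in a subgroup is maximal there. -/
theorem isMaximalTorus_factor {T : Over S} [GrpObj T] (c : C ⟶ G) [IsMonHom c] [Mono c] (t : T ⟶ C)
    (h : Red.IsMaximalTorus (t ≫ c)) : Red.IsMaximalTorus t := by
  haveI := h.1
  haveI := h.2.1
  refine ⟨MTExt21.isMonHom_of_comp' c t h.1, mono_of_mono t c, h.2.2.1, fun s T' _ j _ _ f hT' hf => ?_⟩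
  haveI := isMonHom_map c (Red.geomPt s)
  exact h.2.2.2 s T' (j ≫ (Over.pullback (Red.geomPt s)).map c) f hT'
    (by rw [← Category.assoc, hf, Functor.map_comp])

/-- The trivial isomorphism is a homomorphism. -/
theorem isMonHom_refl (X : Over S) [GrpObj X] : IsMonHom (Iso.refl X).hom := inferInstanceAs (IsMonHom (𝟙 X))

/-- A conjugate of a maximal torus is a maximal torus. -/
theorem isMaximalTorus_conj {T : Over S} [GrpObj T] {i : T ⟶ G} (h : Red.IsMaximalTorus i) (g : 𝟙_ (Over S) ⟶ G) :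
    Red.IsMaximalTorus (i ≫ (conjIso g).hom) := by
  haveI := isMonHom_refl T
  haveI : IsMonHom (conjIso g).symm.hom := inferInstanceAs (IsMonHom (conjIso g).inv)
  exact MTDesc21.isMaximalTorus_transfer h (Iso.refl T) (conjIso g).symm _ (by simp) h.2.2.1

/-- A maximal torus of a two-step base change. -/
theorem isMaximalTorus_step {U U' : Scheme.{u}} [LocallyOfFiniteType G.hom] (π : U ⟶ S) {c : C ⟶ G} {W : Over U}
    [GrpObj W] (t : W ⟶ Red.bc π C) (hW : Red.IsMaximalTorus (t ≫ (Over.pullback π).map c)) (e : U' ⟶ U)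
    {σ : U' ⟶ S} (he : e ≫ π = σ) :
    Red.IsMaximalTorus (((Over.pullback e).map t ≫ (SpreadSub19.bcComp π e he C).hom) ≫ (Over.pullback σ).map c) := by
  haveI : LocallyOfFiniteType (Red.bc π G).hom := inferInstanceAs (LocallyOfFiniteType (pullback.snd G.hom π))
  haveI := SpreadSub19.bcComp_isMonHom π e he G
  haveI := isMonHom_refl (Red.bc e W)
  haveI : IsMonHom (SpreadSub19.bcComp π e he G).symm.hom :=
    inferInstanceAs (IsMonHom (SpreadSub19.bcComp π e he G).inv)
  refine MTDesc21.isMaximalTorus_transfer (MTExt21.isMaximalTorus_bc hW e) (Iso.refl _)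
    (SpreadSub19.bcComp π e he G).symm _ ?_ (MTExt21.isTorus_bc hW.2.2.1 e)
  rw [Functor.map_comp, ← cancel_mono (SpreadSub19.bcComp π e he G).hom]
  simp only [Category.assoc, Iso.symm_hom, Iso.inv_hom_id, Category.comp_id, Iso.refl_hom, Category.id_comp]
  rw [SpreadSub19.bcComp_natural π e he c]

set_option maxHeartbeats 1000000 in
/-- Maximal tori given locally inside a Cartan subgroup agree. -/
theorem exists_agree [Smooth G.hom] [IsSeparated G.hom] {c : C ⟶ G} (hc : SGA3x.IsCartan c) {U : Scheme.{u}}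
    (π : U ⟶ S) {W : Over U} [GrpObj W] (t : W ⟶ Red.bc π C) (hW : Red.IsMaximalTorus (t ≫ (Over.pullback π).map c))
    (Z : Over U) (p : (Over.map π).obj Z ⟶ (Over.map π).obj W) :
    ∃ y : Z ⟶ W, fl π C (y ≫ t) = p ≫ fl π C t := by
  let σ : Z.left ⟶ S := Z.hom ≫ π
  let q : Z.left ⟶ U := p.left ≫ W.hom
  have hq : q ≫ π = σ := (Category.assoc _ _ _).trans (Over.w p)
  haveI : Smooth (Red.bc σ G).hom := inferInstanceAs (Smooth (pullback.snd G.hom σ))
  haveI : IsSeparated (Red.bc σ G).hom := inferInstanceAs (IsSeparated (pullback.snd G.hom σ))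
  have hcσ := isCartan_bc hc σ
  haveI := hcσ.1
  haveI := hcσ.2.1
  haveI := hcσ.2.2.1
  haveI : Mono ((Over.pullback σ).map c).left := Over.mono_left_of_mono _
  haveI : IsSeparated (Red.bc σ C).hom := by rw [← Over.w ((Over.pullback σ).map c)]; infer_instance
  let tz := (Over.pullback Z.hom).map t ≫ (SpreadSub19.bcComp π Z.hom (c := σ) rfl C).hom
  let tq := (Over.pullback q).map t ≫ (SpreadSub19.bcComp π q hq C).hom
  have hz : Red.IsMaximalTorus (tz ≫ (Over.pullback σ).map c) := isMaximalTorus_step π t hW Z.hom rfl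
  have hq' : Red.IsMaximalTorus (tq ≫ (Over.pullback σ).map c) := isMaximalTorus_step π t hW q hq
  obtain ⟨φ, hφ⟩ := CartanRel21.exists_iso_of_central (isMaximalTorus_factor _ tz hz)
    (isMaximalTorus_factor _ tq hq') (central_and_centralizer hcσ hz tz rfl).1
  let sq : Over.mk (𝟙 Z.left) ⟶ Red.bc q W :=
    Over.homMk (pullback.lift p.left (𝟙 Z.left) (Category.id_comp q).symm) (pullback.lift_snd _ _ _)
  have hs : (sq ≫ φ.hom).left ≫ pullback.snd W.hom Z.hom = 𝟙 Z.left := Over.w (sq ≫ φ.hom)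
  let y : Z ⟶ W := Over.homMk ((sq ≫ φ.hom).left ≫ pullback.fst W.hom Z.hom) (by
    rw [Category.assoc, pullback.condition, ← Category.assoc, hs, Category.id_comp])
  refine ⟨y, Over.OverMorphism.ext ?_⟩
  have hfl : ∀ {V : Over U} (x : V ⟶ Red.bc π C), (fl π C x).left = x.left ≫ pullback.fst C.hom π := fun x => by
    simp [DiagGL.fl, Adjunction.homEquiv_counit]
  have hB : ∀ (e : Z.left ⟶ U) (he : e ≫ π = σ),
      ((Over.pullback e).map t ≫ (SpreadSub19.bcComp π e he C).hom).left ≫ pullback.fst C.hom σ =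
        pullback.fst W.hom e ≫ t.left ≫ pullback.fst C.hom π := fun e he => by
    rw [Over.comp_left, Category.assoc, SpreadSub19.bcComp_fst]
    show pullback.lift _ _ _ ≫ _ = _
    rw [pullback.lift_fst_assoc, Category.assoc]
  have h1 := congrArg (fun m => (sq ≫ m).left ≫ pullback.fst C.hom σ) hφ
  simp only [tz, tq] at h1
  simp only [Over.comp_left, Category.assoc] at h1 hB
  rw [hB Z.hom rfl, hB q hq] at h1
  show (fl π C (y ≫ t)).left = p.left ≫ (fl π C t).left
  rw [hfl, hfl, Over.comp_left, Category.assoc]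
  show ((sq ≫ φ.hom).left ≫ pullback.fst W.hom Z.hom) ≫ t.left ≫ pullback.fst C.hom π = _
  rw [Category.assoc]
  refine h1.trans ?_
  rw [← Category.assoc, show sq.left ≫ pullback.fst W.hom q = p.left from pullback.lift_fst _ _ _]

theorem exists_compact_image' {U : Scheme.{u}} (h : U ⟶ S) [Flat h] [LocallyOfFinitePresentation h]
    [Surjective h] (V : S.Opens) (hV : IsCompact (V : Set S)) :
    ∃ W : U.Opens, IsCompact (W : Set U) ∧ h.base '' (W : Set U) = (V : Set S) := by
  have hopen : ∀ v : V, ∃ B : U.Opens, IsAffineOpen B ∧ B ≤ h ⁻¹ᵁ V ∧ v.1 ∈ h '' (B : Set U) := fun v => by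
    obtain ⟨w, hw⟩ := h.surjective v.1
    obtain ⟨B, hB, hwB, hBV⟩ := exists_isAffineOpen_mem_and_subset (x := w) (U := h ⁻¹ᵁ V)
      (show h w ∈ V by rw [hw]; exact v.2)
    exact ⟨B, hB, hBV, ⟨w, hwB, hw⟩⟩
  choose B hB hBV hvB using hopen
  obtain ⟨F, hF⟩ := hV.elim_finite_subcover (fun v : V => h '' (B v : Set U))
    (fun v => h.isOpenMap _ (B v).2) (fun x hx => Set.mem_iUnion.2 ⟨⟨x, hx⟩, hvB ⟨x, hx⟩⟩)
  refine ⟨⨆ v : F, B v.1, ?_, ?_⟩
  · rw [TopologicalSpace.Opens.coe_iSup]; exact isCompact_iUnion fun v => (hB v.1).isCompact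
  · rw [TopologicalSpace.Opens.coe_iSup, Set.image_iUnion]
    refine Set.Subset.antisymm (Set.iUnion_subset fun v => ?_) fun x hx => ?_
    · rintro _ ⟨w, hw, rfl⟩
      exact hBV v.1 hw
    · obtain ⟨v, hv, hxv⟩ := Set.mem_iUnion₂.1 (hF hx)
      exact Set.mem_iUnion.2 ⟨⟨v, hv⟩, hxv⟩

theorem isTorus_iso {T T' : Over S} [GrpObj T] [GrpObj T'] (hT : Red.IsTorus T) (e : T' ≅ T) [IsMonHom e.hom] :
    Red.IsTorus T' := by
  obtain ⟨S', f, hf, hs, hc, hloc⟩ := hT
  refine ⟨S', f, hf, hs, hc, fun s' => ?_⟩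
  obtain ⟨V, hV, r, ⟨ψ⟩⟩ := hloc s'
  haveI : IsMonHom ((Over.pullback (V.ι ≫ f)).mapIso e).hom := isMonHom_map e.hom _
  exact ⟨V, hV, r, ⟨Grp.mkIso' ((Over.pullback (V.ι ≫ f)).mapIso e) ≪≫ ψ⟩⟩

set_option maxHeartbeats 2000000 in
/-- A Cartan subgroup is the centraliser of a maximal torus. -/
theorem exists_maxTorus_of_cartan [Smooth G.hom] [IsSeparated G.hom] [QuasiCompact G.hom]
    (hG : SGA3x.HasMaxTorusFpqcLocally G) {c : C ⟶ G} (hc : SGA3x.IsCartan c) :
    ∃ (T : Over S) (_ : GrpObj T) (i : T ⟶ G), Red.IsMaximalTorus i ∧ Red.IsCentralizerOf i c := by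
  obtain ⟨S', f, hf, hfs, hfc, T', _, i', hT'⟩ := hG
  haveI := hf
  haveI := hfs
  haveI := hc.1
  haveI := hc.2.1
  haveI : Smooth (Red.bc f G).hom := inferInstanceAs (Smooth (pullback.snd G.hom f))
  haveI : IsSeparated (Red.bc f G).hom := inferInstanceAs (IsSeparated (pullback.snd G.hom f))
  haveI : QuasiCompact (Red.bc f G).hom := inferInstanceAs (QuasiCompact (pullback.snd G.hom f))
  have hc' := isCartan_bc hc f
  haveI := hc'.1
  haveI := hc'.2.1
  haveI := hc'.2.2.1
  haveI := hT'.1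
  haveI := hT'.2.1
  let c' := (Over.pullback f).map c
  obtain ⟨C₀, _, j, hjm, hjo, hj, hC₀s, hC₀q⟩ := exists_neutral (Red.bc f C)
  haveI := hjm
  haveI := hjo
  haveI := hC₀s
  haveI := hC₀q
  haveI : Mono j := Over.mono_of_mono_left j
  obtain ⟨P, p, hp, hPs, hrep⟩ := exists_transporter_smooth hT'.2.2.1 i' (j ≫ c')
  haveI := hp
  haveI := hPs
  haveI : Surjective P.hom := ⟨fun s => by
    obtain ⟨g, hg⟩ := exists_geom_point hc' hT' j hj s
    obtain ⟨x, -⟩ := (hrep _ g).2 hg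
    refine ⟨x.left (IsLocalRing.closedPoint _), ?_⟩
    rw [← Scheme.Hom.comp_apply, Over.w x]
    exact Scheme.fromSpecResidueField_apply s _⟩
  let h := P.hom
  let π : P.left ⟶ S := h ≫ f
  haveI : Flat π := inferInstanceAs (Flat (h ≫ f))
  haveI : Surjective π := inferInstanceAs (Surjective (h ≫ f))
  have hπc : ∀ V : S.Opens, IsAffineOpen V →
      ∃ W : P.left.Opens, IsCompact (W : Set P.left) ∧ π.base '' (W : Set P.left) = (V : Set S) := fun V hV => by
    obtain ⟨W, hW, hWV⟩ := hfc V hV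
    obtain ⟨W', hW', hWW'⟩ := exists_compact_image' h W hW
    exact ⟨W', hW', by rw [← hWV, ← hWW', Set.image_image]; rfl⟩
  let p' : Over.mk h ⟶ Red.bc f G := Over.homMk p.left (Over.w p)
  obtain ⟨g₁, hg₁⟩ := exists_section_bc (G := Red.bc f G) h p'
  have hP' : ∃ x : Over.mk h ⟶ P, x ≫ p = p' :=
    ⟨Over.homMk (𝟙 _) (Category.id_comp _), Over.OverMorphism.ext (Category.id_comp _)⟩
  obtain ⟨x₁, hx₁⟩ := hg₁ (Red.bc h T')
  obtain ⟨b, hb⟩ := (hrep _ p').1 hP' _ x₁ (fl h T' (𝟙 _))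
  obtain ⟨b', rfl⟩ := fl_surjective h C₀ b
  let t₁ : Red.bc h T' ⟶ Red.bc h (Red.bc f C) := b' ≫ (Over.pullback h).map j
  have ht₁ : t₁ ≫ (Over.pullback h).map c' = (Over.pullback h).map i' ≫ (conjIso g₁).hom := by
    refine fl_injective h (Red.bc f G) ?_
    rw [comp_conjIso, fl_mul, fl_mul, MTRigid29.fl_inv h (Red.bc f G), hx₁]
    have e : fl h (Red.bc f G) ((Over.pullback h).map i') = fl h T' (𝟙 _) ≫ i' := by
      rw [← fl_comp_map, Category.id_comp]
    rw [e, hb]
    simp only [t₁, Category.assoc]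
    rw [← Functor.map_comp, fl_comp_map]
  let B := SpreadSub19.bcComp f h (c := π) rfl C
  let t : Red.bc h T' ⟶ Red.bc π C := t₁ ≫ B.hom
  have ht : Red.IsMaximalTorus (t ≫ (Over.pullback π).map c) := by
    haveI : LocallyOfFiniteType (Red.bc f G).hom := inferInstance
    have h₀ := isMaximalTorus_conj (MTExt21.isMaximalTorus_bc hT' h) g₁
    haveI := SpreadSub19.bcComp_isMonHom f h (c := π) rfl G
    haveI := isMonHom_refl (Red.bc h T')
    haveI : IsMonHom (SpreadSub19.bcComp f h (c := π) rfl G).symm.hom :=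
      inferInstanceAs (IsMonHom (SpreadSub19.bcComp f h (c := π) rfl G).inv)
    refine MTDesc21.isMaximalTorus_transfer h₀ (Iso.refl _) (SpreadSub19.bcComp f h (c := π) rfl G).symm _ ?_
      (MTExt21.isTorus_bc hT'.2.2.1 h)
    rw [← cancel_mono (SpreadSub19.bcComp f h (c := π) rfl G).hom]
    simp only [t, B, Category.assoc, Iso.symm_hom, Iso.inv_hom_id, Category.comp_id, Iso.refl_hom, Category.id_comp]
    rw [← SpreadSub19.bcComp_natural f h rfl c, ← Category.assoc, ht₁, Category.assoc]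
  haveI : Smooth (Red.bc π C).hom := MorphismProperty.pullback_snd C.hom π hc.2.2.1
  have htC := isMaximalTorus_factor _ t ht
  haveI := htC.1
  haveI := htC.2.1
  have hcov : Presieve.ofArrows (fun _ : PUnit.{u + 1} => P.left) (fun _ => π) ∈ Scheme.fpqcPrecoverage S := by
    refine ⟨?_, (Scheme.ofArrows_mem_precoverage_iff @Flat).mpr
      ⟨fun s => ⟨PUnit.unit, π.surjective s⟩, fun _ => ‹Flat π›⟩⟩
    refine (Scheme.presieve₀_mem_qcPrecoverage_iff (E := ⟨PUnit, fun _ => P.left, fun _ => π⟩)).mpr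
      ⟨fun {O} hO => ?_⟩
    obtain ⟨W, hW, hWO⟩ := hπc O hO
    exact IsCompactOpenCovered.iff_of_unique.2 ⟨W, hW, hWO⟩
  obtain ⟨A, _, a, ham, hamono, hφA, -⟩ := MTDesc21.exists_descent_family (G := C) (W := fun _ : PUnit.{u + 1} => Red.bc h T')
    (fun _ => t) hcov (fun _ => isAffineHom_of_isMT (isMT_of_ft (TorPts21.isMultTypeFT_of_isTorus htC.2.2.1)))
    (fun _ _ Z q => exists_agree hc π t ht Z q)
  haveI := ham
  haveI := hamono
  obtain ⟨φ, hφm, hφ⟩ := hφA PUnit.unit
  haveI := hφm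
  have hA : Red.IsTorus A := MTDesc21.isTorus_of_bc π hπc A (isTorus_iso htC.2.2.1 φ)
  have hmax : Red.IsMaximalTorus (a ≫ c) := by
    refine MTExt21.isMaximalTorus_of_bc hA π ?_
    haveI := isMonHom_refl (Red.bc π G)
    refine MTDesc21.isMaximalTorus_transfer ht φ (Iso.refl _) _ ?_ (MTExt21.isTorus_bc hA π)
    rw [Functor.map_comp, ← hφ, Iso.refl_hom, Category.comp_id, Category.assoc]
  exact ⟨A, inferInstance, a ≫ c, hmax, (central_and_centralizer hc hmax a rfl).2⟩

end Groth.Agent.CartanT21
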