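import Groth.Agent.Lib.RigidRel.Unital.Fibres
import Groth.Prelude.Def_Red
import Mathlib.AlgebraicGeometry.Morphisms.FlatMono

/-!
# Monomorphisms that are isomorphisms on geometric fibres
-/

set_option autoImplicit false
set_option linter.style.haveILetI false
set_option backward.isDefEq.respectTransparency.types false

universe u

open CategoryTheory Limits AlgebraicGeometry

noncomputable section

namespace Groth.Agent.CartanT21

variable {S : Scheme.{u}}

/-- The fibre over a point is an isomorphism when the geometric one is. -/
theorem isIso_fibre {A B : Over S} (l : A ⟶ B) (s : S)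
    (h : IsIso ((Over.pullback (Red.geomPt s)).map l)) : IsIso (pullback.snd l.left (B.hom.fiberι s)) := by
  let g := B.hom
  let K := AlgebraicClosure (S.residueField s)
  let ρ : Spec (CommRingCat.of K) ⟶ Spec (S.residueField s) :=
    Spec.map (CommRingCat.ofHom (algebraMap (S.residueField s) K))
  let a := ρ ≫ S.fromSpecResidueField s
  let f := l.left
  let w : pullback g a ⟶ g.fiber s := pullback.lift (pullback.fst g a) (pullback.snd g a ≫ ρ)
    (by rw [Category.assoc]; exact pullback.condition)
  have hw1 : w ≫ g.fiberι s = pullback.fst g a := pullback.lift_fst _ _ _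
  have hsq : IsPullback w (pullback.snd g a) (g.fiberToSpecResidueField s) ρ :=
    IsPullback.of_right (by rw [show w ≫ pullback.fst g (S.fromSpecResidueField s) = pullback.fst g a from hw1]; exact IsPullback.of_hasPullback g a) (pullback.lift_snd _ _ _)
      (IsPullback.of_hasPullback g (S.fromSpecResidueField s))
  haveI : Flat w := MorphismProperty.of_isPullback (P := @Flat) hsq.flip inferInstance
  haveI : Surjective ρ :=
    ⟨Function.surjective_to_subsingleton (α := Spec (CommRingCat.of K)) (β := Spec (S.residueField s)) _⟩
  haveI : Surjective w := MorphismProperty.of_isPullback (P := @Surjective) hsq.flip inferInstance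
  haveI : QuasiCompact w := MorphismProperty.of_isPullback (P := @QuasiCompact) hsq.flip inferInstance
  let F := pullback.snd f (g.fiberι s)
  have hbig : IsPullback (pullback.fst f (pullback.fst g a)) (pullback.snd f (pullback.fst g a)) f (w ≫ g.fiberι s) := by
    rw [hw1]; exact IsPullback.of_hasPullback _ _
  let m : pullback f (pullback.fst g a) ⟶ pullback f (g.fiberι s) :=
    pullback.lift (pullback.fst f _) (pullback.snd f _ ≫ w) (by rw [Category.assoc, hw1]; exact pullback.condition)
  have hl : IsPullback m (pullback.snd f (pullback.fst g a)) F w :=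
    IsPullback.of_right (by rw [pullback.lift_fst]; exact hbig) (pullback.lift_snd _ _ _)
      (IsPullback.of_hasPullback f (g.fiberι s))
  refine MorphismProperty.of_pullback_snd_of_descendsAlong (P := MorphismProperty.isomorphisms Scheme)
    (Q := @Surjective ⊓ @Flat ⊓ @QuasiCompact) (f := F) (g := w) ⟨⟨inferInstance, inferInstance⟩, inferInstance⟩ ?_
  show IsIso (pullback.snd F w)
  have hsqA : IsPullback ((Over.pullback (Red.geomPt s)).map l).left (pullback.fst A.hom (Red.geomPt s))
      (pullback.fst B.hom (Red.geomPt s)) l.left := by
    refine IsPullback.of_right (h₁₂ := pullback.snd B.hom (Red.geomPt s)) (v₁₃ := Red.geomPt s) (h₂₂ := B.hom) ?_ ?_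
      (IsPullback.of_hasPullback B.hom (Red.geomPt s)).flip
    · rw [Over.w l]
      erw [Over.w ((Over.pullback (Red.geomPt s)).map l)]
      exact (IsPullback.of_hasPullback A.hom (Red.geomPt s)).flip
    · exact pullback.lift_fst _ _ _
  haveI : IsIso ((Over.pullback (Red.geomPt s)).map l).left :=
    inferInstanceAs (IsIso ((Over.forget _).map ((Over.pullback (Red.geomPt s)).map l)))
  haveI : IsIso (pullback.snd f (pullback.fst g a)) := by
    show IsIso (pullback.snd l.left (pullback.fst B.hom (Red.geomPt s)))
    rw [← hsqA.flip.isoPullback_inv_snd]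
    infer_instance
  rw [← hl.isoPullback_inv_snd]
  infer_instance

/-- A monomorphism out of a flat scheme which is an isomorphism on geometric fibres is an isomorphism. -/
theorem isIso_of_geom_fibres {A B : Over S} [Flat A.hom] [LocallyOfFinitePresentation A.hom]
    [LocallyOfFiniteType B.hom] (l : A ⟶ B) [Mono l]
    (H : ∀ s : S, IsIso ((Over.pullback (Red.geomPt s)).map l)) : IsIso l := by
  haveI : Flat (l.left ≫ B.hom) := by rw [Over.w l]; infer_instance
  haveI : LocallyOfFinitePresentation (l.left ≫ B.hom) := by rw [Over.w l]; infer_instance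
  haveI : Flat l.left := FlatH4.flat_of_fibres l.left B.hom fun s => haveI := isIso_fibre l s (H s); inferInstance
  haveI : LocallyOfFinitePresentation l.left := SchBasic.locallyOfFinitePresentation_of_comp l.left B.hom
  haveI : Mono l.left := Over.mono_left_of_mono l
  haveI : IsOpenImmersion l.left := IsOpenImmersion.of_flat_of_mono l.left
  haveI : Surjective l.left := ⟨fun y => by
    haveI := isIso_fibre l (B.hom y) (H (B.hom y))
    obtain ⟨z, hz⟩ : y ∈ Set.range (B.hom.fiberι (B.hom y)) := by rw [Scheme.Hom.range_fiberι]; rfl
    obtain ⟨w, hw⟩ := (pullback.snd l.left (B.hom.fiberι (B.hom y))).surjective z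
    refine ⟨pullback.fst l.left (B.hom.fiberι (B.hom y)) w, ?_⟩
    rw [← Scheme.Hom.comp_apply, pullback.condition, Scheme.Hom.comp_apply, hw, hz]⟩
  haveI : IsIso l.left := (isIso_iff_isOpenImmersion_and_epi_base _).2
    ⟨inferInstance, (TopCat.epi_iff_surjective _).2 l.left.surjective⟩
  haveI : IsIso ((Over.forget S).map l) := ‹IsIso l.left›
  exact isIso_of_reflects_iso l (Over.forget S)

end Groth.Agent.CartanT21
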