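import Groth.Agent.Lib.CartanRel21.Basic
import Groth.Agent.Lib.MTExt21.Torus
import Groth.Agent.Lib.CartanT21.Iso

/-!
# A maximal torus inside a Cartan subgroup is central in it
-/

set_option autoImplicit false
set_option linter.style.haveILetI false
set_option linter.unusedSectionVars false
set_option backward.isDefEq.respectTransparency.types false

universe u

open CategoryTheory Limits MonoidalCategory CartesianMonoidalCategory MonObj AlgebraicGeometry

noncomputable section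

namespace Groth.Agent.CartanT21

open DiagGL MTRigid29

/-- Two maximal tori, the first inside the centraliser of the second, have the same centraliser. -/
theorem isCentralizerOf_field {k : Type u} [Field k] [IsAlgClosed k] {G C T T₀ : Over (Spec (CommRingCat.of k))}
    [GrpObj G] [GrpObj C] [GrpObj T] [GrpObj T₀] [LocallyOfFiniteType G.hom] {i : T ⟶ G} {i₀ : T₀ ⟶ G}
    (hT : AGF.IsMaxTorus i) (hT₀ : AGF.IsMaxTorus i₀) {c : C ⟶ G} (hc : Red.IsCentralizerOf i₀ c) (t : T ⟶ C)
    (ht : t ≫ c = i) : Red.IsCentralizerOf i c := by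
  haveI := hT.1
  haveI := hT₀.1
  obtain ⟨Q, _, m, f₁, f₂, hm, hmono, hQ, hf₁, hf₂⟩ := AttrBorel21.exists_torus_ge_of_commute hT.2.2.1 hT₀.2.2.1
    i i₀ fun X x y => by
      have h := (hc.2.2 X ((x ≫ t) ≫ c)).1 ⟨x ≫ t, rfl⟩ X (𝟙 X) y
      simpa only [Category.id_comp, Category.assoc, ht] using h
  haveI := hm
  haveI := hmono
  haveI : IsIso f₁ := hT.2.2.2 Q m f₁ hQ hf₁
  haveI : IsIso f₂ := hT₀.2.2.2 Q m f₂ hQ hf₂
  refine ⟨hc.1, hc.2.1, fun X g => (hc.2.2 X g).trans ⟨fun h X' x a => ?_, fun h X' x a => ?_⟩⟩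
  · have e : a ≫ i = (a ≫ f₁ ≫ inv f₂) ≫ i₀ := by simp [← hf₁, ← hf₂]
    rw [e]
    exact h X' x _
  · have e : a ≫ i₀ = (a ≫ f₂ ≫ inv f₁) ≫ i := by simp [← hf₁, ← hf₂]
    rw [e]
    exact h X' x _

variable {S : Scheme.{u}} {G C T : Over S} [GrpObj G] [GrpObj C] [GrpObj T]

/-- The same over every geometric point. -/
theorem isCentralizerOf_geom [LocallyOfFiniteType G.hom] {c : C ⟶ G} (hc : SGA3x.IsCartan c) {i : T ⟶ G}
    (hT : Red.IsMaximalTorus i) (t : T ⟶ C) (ht : t ≫ c = i) (s : S) :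
    Red.IsCentralizerOf ((Over.pullback (Red.geomPt s)).map i) ((Over.pullback (Red.geomPt s)).map c) := by
  obtain ⟨-, -, T₀, _, i₀, hT₀, hC₀⟩ := hc.2.2.2 s
  haveI : LocallyOfFiniteType (Red.bc (Red.geomPt s) G).hom :=
    inferInstanceAs (LocallyOfFiniteType (pullback.snd G.hom (Red.geomPt s)))
  exact isCentralizerOf_field (CartanRel21.isMaxTorus_geom hT s) (TorPts21.isMaxTorus_of_isMaximalTorus hT₀) hC₀
    ((Over.pullback (Red.geomPt s)).map t) (by rw [← Functor.map_comp, ht])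

set_option maxHeartbeats 1000000 in
/-- A maximal torus inside a Cartan subgroup is central there and has it as centraliser. -/
theorem central_and_centralizer [Smooth G.hom] [IsSeparated G.hom] {c : C ⟶ G} (hc : SGA3x.IsCartan c) {i : T ⟶ G}
    (hT : Red.IsMaximalTorus i) (t : T ⟶ C) (ht : t ≫ c = i) :
    (∀ (X : Over S) (g : X ⟶ C) (h : X ⟶ T), g * (h ≫ t) = (h ≫ t) * g) ∧ Red.IsCentralizerOf i c := by
  haveI := hc.1
  haveI := hc.2.1
  haveI := hT.1
  haveI := hc.2.2.1
  haveI : Mono c.left := Over.mono_left_of_mono c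
  haveI : IsSeparated C.hom := by rw [← Over.w c]; infer_instance
  haveI : IsMonHom t := MTExt21.isMonHom_of_comp' c t (by rw [ht]; infer_instance)
  have hMT := isMT_of_ft (TorPts21.isMultTypeFT_of_isTorus hT.2.2.1)
  obtain ⟨Z, _, z, hZ, hzc, hZs⟩ := TorusCentr19.exists_centralizer' hMT ‹Smooth C.hom› t
  haveI := hZ.1
  haveI := hZ.2.1
  haveI := hzc
  haveI := hZs
  haveI : IsIso z := isIso_of_geom_fibres z fun s => by
    have hC := isCentralizerOf_geom hc hT t ht s
    have hZb := CartanRel21.isCentralizerOf_bc hZ (Red.geomPt s)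
    obtain ⟨y, hy⟩ := (hZb.2.2 _ (𝟙 (Red.bc (Red.geomPt s) C))).2 fun X' x a => by
      haveI := hC.1
      haveI := hC.2.1
      refine (cancel_mono ((Over.pullback (Red.geomPt s)).map c)).1 ?_
      rw [MonObj.mul_comp, MonObj.mul_comp, Category.assoc, Category.assoc, ← Functor.map_comp, ht]
      have h := (hC.2.2 _ ((Over.pullback (Red.geomPt s)).map c)).1 ⟨𝟙 _, Category.id_comp _⟩ X' x a
      simpa only [Category.comp_id, Category.id_comp, Category.assoc] using h
    haveI := hZb.2.1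
    exact ⟨y, (cancel_mono ((Over.pullback (Red.geomPt s)).map z)).1 (by rw [Category.assoc, hy, Category.comp_id, Category.id_comp]), hy⟩
  have hcentral : ∀ (X : Over S) (g : X ⟶ C) (h : X ⟶ T), g * (h ≫ t) = (h ≫ t) * g := fun X g h => by
    have e := (hZ.2.2 X g).1 ⟨g ≫ inv z, by simp⟩ X (𝟙 X) h
    simpa only [Category.id_comp] using e
  refine ⟨hcentral, ?_⟩
  obtain ⟨W, _, w, hW, hwc, hWs⟩ := TorusCentr19.exists_centralizer' hMT ‹Smooth G.hom› i
  haveI := hW.1
  haveI := hW.2.1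
  haveI := hwc
  haveI := hWs
  obtain ⟨l, hl⟩ := (hW.2.2 C c).2 fun X' x a => by
    rw [← ht, ← Category.assoc, ← MonObj.mul_comp, ← MonObj.mul_comp, hcentral]
  haveI : Mono (l ≫ w) := by rw [hl]; infer_instance
  haveI : Mono l := mono_of_mono l w
  haveI : IsIso l := isIso_of_geom_fibres l fun s => by
    have hC := isCentralizerOf_geom hc hT t ht s
    have hWb := CartanRel21.isCentralizerOf_bc hW (Red.geomPt s)
    obtain ⟨y, hy⟩ := (hC.2.2 _ ((Over.pullback (Red.geomPt s)).map w)).2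
      ((hWb.2.2 _ _).1 ⟨𝟙 _, Category.id_comp _⟩)
    haveI := hWb.2.1
    haveI := hC.2.1
    exact ⟨y, (cancel_mono ((Over.pullback (Red.geomPt s)).map c)).1 (by
        rw [Category.assoc, hy, ← Functor.map_comp, hl, Category.id_comp]),
      (cancel_mono ((Over.pullback (Red.geomPt s)).map w)).1 (by
        rw [Category.assoc, ← Functor.map_comp, hl, hy, Category.id_comp])⟩
  refine ⟨hc.1, hc.2.1, fun X g => (Iff.trans ⟨?_, ?_⟩ (hW.2.2 X g))⟩
  · rintro ⟨y, rfl⟩
    exact ⟨y ≫ l, by rw [Category.assoc, hl]⟩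
  · rintro ⟨y, rfl⟩
    exact ⟨y ≫ inv l, by rw [← hl]; simp⟩

end Groth.Agent.CartanT21
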