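import Groth.Agent.Lib.CartanT21.Transporter
import Groth.Agent.Lib.CartanT21.Central

/-!
# Maximal tori conjugate into a Cartan subgroup
-/

set_option autoImplicit false
set_option linter.style.haveILetI false
set_option linter.unusedSectionVars false
set_option backward.isDefEq.respectTransparency.types false

universe u

open CategoryTheory Limits MonoidalCategory CartesianMonoidalCategory MonObj AlgebraicGeometry

noncomputable section

namespace Groth.Agent.CartanT21

open DiagGL MTRigid29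

variable {S : Scheme.{u}} {G C T C₀ : Over S} [GrpObj G] [GrpObj C] [GrpObj T] [GrpObj C₀]

theorem comp_sec {X Y : Over S} (y : Y ⟶ X) (g : 𝟙_ (Over S) ⟶ G) : y ≫ toUnit X ≫ g = toUnit Y ≫ g := by
  rw [← Category.assoc, toUnit_unique (y ≫ toUnit X) (toUnit Y)]

/-- Conjugation by a section. -/
def conjIso (g : 𝟙_ (Over S) ⟶ G) : G ≅ G where
  hom := (toUnit G ≫ g) * 𝟙 G * (toUnit G ≫ g)⁻¹
  inv := (toUnit G ≫ g)⁻¹ * 𝟙 G * (toUnit G ≫ g)
  hom_inv_id := by
    rw [MonObj.comp_mul, MonObj.comp_mul, GrpObj.comp_inv, Category.comp_id, comp_sec]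
    group
  inv_hom_id := by
    rw [MonObj.comp_mul, MonObj.comp_mul, GrpObj.comp_inv, Category.comp_id, comp_sec]
    group

theorem comp_conjIso (g : 𝟙_ (Over S) ⟶ G) {X : Over S} (x : X ⟶ G) :
    x ≫ (conjIso g).hom = (toUnit X ≫ g) * x * (toUnit X ≫ g)⁻¹ := by
  show x ≫ ((toUnit G ≫ g) * 𝟙 G * (toUnit G ≫ g)⁻¹) = _
  rw [MonObj.comp_mul, MonObj.comp_mul, GrpObj.comp_inv, Category.comp_id, comp_sec]

instance isMonHom_conjIso (g : 𝟙_ (Over S) ⟶ G) : IsMonHom (conjIso g).hom :=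
  TorsorSch25.isMonHom_of_points _ fun X a b => by
    rw [comp_conjIso, comp_conjIso, comp_conjIso]
    group

set_option maxHeartbeats 1000000 in
/-- Over a geometric point, a maximal torus is conjugate into the neutral component of a Cartan subgroup. -/
theorem exists_geom_point [Smooth G.hom] [QuasiCompact G.hom] {c : C ⟶ G} (hc : SGA3x.IsCartan c) {i : T ⟶ G}
    (hT : Red.IsMaximalTorus i) (j : C₀ ⟶ C) [IsOpenImmersion j.left]
    (hj : Set.range j.left = SGA3x.neutralSet C) (s : S) :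
    ∃ g : Over.mk (Red.geomPt s) ⟶ G, ∀ (X' : Over S) (x : X' ⟶ Over.mk (Red.geomPt s)) (h : X' ⟶ T),
      ∃ a : X' ⟶ C₀, (x ≫ g) * (h ≫ i) * (x ≫ g)⁻¹ = a ≫ j ≫ c := by
  let k := Red.geomPt s
  haveI := hc.1
  haveI := hc.2.1
  haveI := hT.1
  haveI := isMonHom_map i k
  haveI := isMonHom_map c k
  obtain ⟨-, -, T₀, _, i₀, hT₀, hC₀⟩ := hc.2.2.2 s
  haveI : Smooth (Red.bc k G).hom := inferInstanceAs (Smooth (pullback.snd G.hom k))
  haveI : QuasiCompact (Red.bc k G).hom := inferInstanceAs (QuasiCompact (pullback.snd G.hom k))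
  obtain ⟨g₀, φ, hφ⟩ := MTConj21.exists_conj_maxTorus_disc (CartanRel21.isMaxTorus_geom hT s)
    (TorPts21.isMaxTorus_of_isMaximalTorus hT₀)
  haveI := hT₀.1
  haveI := hC₀.2.1
  obtain ⟨y, hy⟩ := (hC₀.2.2 T₀ i₀).2 fun X x a => by
    rw [← MonObj.mul_comp, ← MonObj.mul_comp, commute_of_isMultTypeFT (TorPts21.isMultTypeFT_of_isTorus hT₀.2.2.1)]
  let v : Red.bc k T ⟶ Red.bc k C := φ.hom ≫ y
  have hv : v ≫ (Over.pullback k).map c = (Over.pullback k).map i ≫ (conjIso g₀).hom := by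
    rw [comp_conjIso, Category.assoc, hy]
    exact hφ.symm
  haveI : IsMonHom v := MTExt21.isMonHom_of_comp' ((Over.pullback k).map c) v (by rw [hv]; infer_instance)
  have hTk := MTExt21.isTorus_bc hT.2.2.1 k
  have hN : SGA3x.neutralSet (Red.bc k T) = Set.univ :=
    PureSmooth29.neutralSet_eq_univ (connectedSpace_fibre_torus hTk)
  have hrange : Set.range (fl k C v).left ⊆ Set.range j.left := by
    rintro _ ⟨z, rfl⟩
    have h := GrpNeutral20.hom_mem v (x := z) (by rw [hN]; trivial)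
    rw [GrpNeutral20.neutralSet_bc C k] at h
    rw [hj, show (fl k C v).left = v.left ≫ pullback.fst C.hom k by simp [DiagGL.fl, Adjunction.homEquiv_counit], Scheme.Hom.comp_apply]
    exact h
  let l : (Over.map k).obj (Red.bc k T) ⟶ C₀ := Over.homMk (IsOpenImmersion.lift j.left (fl k C v).left hrange) (by
    rw [← Over.w j, ← Category.assoc, IsOpenImmersion.lift_fac]
    exact Over.w (fl k C v))
  have hl : l ≫ j = fl k C v := Over.OverMorphism.ext (IsOpenImmersion.lift_fac _ _ _)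
  refine ⟨MTRigid29.secOf k g₀, fun X' x h => ?_⟩
  obtain ⟨Y, e, y', hy', hg⟩ := MTRigid29.exists_bc_point (G := G) k x h
  refine ⟨e.hom ≫ (Over.map k).map y' ≫ l, ?_⟩
  have h1 : (toUnit Y ≫ g₀) * (y' ≫ (Over.pullback k).map i) * (toUnit Y ≫ g₀)⁻¹ =
      (y' ≫ v) ≫ (Over.pullback k).map c := by
    rw [Category.assoc, hv, ← Category.assoc, comp_conjIso]
  have h2 := congrArg (fun z => e.hom ≫ fl k G z) h1
  simp only [fl_mul, fl_comp_map, MTRigid29.fl_inv k G, MonObj.comp_mul, GrpObj.comp_inv, hg] at h2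
  rw [← Category.assoc, hy'] at h2
  rw [h2]
  simp only [Category.assoc]
  rw [← Category.assoc l j c, hl, fl_comp, Category.assoc]

end Groth.Agent.CartanT21
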