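import Groth.Agent.Lib.MTRigid29.TransporterSmooth
import Groth.Agent.Lib.MTRigid29.MTFlat
import Groth.Agent.Lib.PureSmooth29.SubgroupTransporter
import Groth.Agent.Lib.GrpNeutral20.Smooth
import Groth.Agent.Lib.GrpNeutral20.FlatHom
import Groth.Agent.Lib.TorusCentr19.Basic
import Groth.Agent.Lib.MTConj21.Basic
import Groth.Agent.Lib.MTExt21.Torus

/-!
# Transporters of tori into smooth subgroups
-/

set_option autoImplicit false
set_option linter.style.haveILetI false
set_option linter.unusedSectionVars false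
set_option backward.isDefEq.respectTransparency.types false
set_option maxSynthPendingDepth 3

universe u

open CategoryTheory Limits MonoidalCategory CartesianMonoidalCategory MonObj AlgebraicGeometry

noncomputable section

namespace Groth.Agent.CartanT21

open DiagGL MTRigid29

variable {S : Scheme.{u}} {G K T : Over S} [GrpObj G] [GrpObj K] [GrpObj T]

theorem smooth_of_torus (hT : Red.IsTorus T) : Smooth T.hom := by
  have hMT := TorPts21.isMultTypeFT_of_isTorus hT
  haveI := flat_of_isMultTypeFT hMT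
  haveI := lfp_of_isMultTypeFT hMT
  refine FlatH4.smooth_of_flat_of_fibres T.hom fun F _ a => ?_
  have h : Smooth (pullback.snd T.hom a) := (TorPts21.smooth_connected_of_isTorus (MTExt21.isTorus_bc hT a)).1
  rw [← pullbackSymmetry_hom_comp_snd a T.hom]
  infer_instance

theorem connectedSpace_fibre_torus (hT : Red.IsTorus T) (s : S) :
    ConnectedSpace ↥(pullback T.hom (S.fromSpecResidueField s)) :=
  (TorPts21.smooth_connected_of_isTorus (k := S.residueField s)
    (MTExt21.isTorus_bc hT (show Spec (CommRingCat.of (S.residueField s)) ⟶ S from S.fromSpecResidueField s))).2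

theorem lift_of_lift (hT : SGA3x.IsMultTypeFT T) (hG : Smooth G.hom) (i : T ⟶ G) [IsMonHom i] (k : K ⟶ G)
    [IsMonHom k] [Mono k] (hK : Smooth K.hom)
    (D : Type u) [CommRing D] (J : Ideal D) (hJ : J ^ 2 = ⊥) (b : Spec (CommRingCat.of D) ⟶ S)
    (g₀ : Over.mk (Spec.map (CommRingCat.ofHom (Ideal.Quotient.mk J)) ≫ b) ⟶ G)
    (h0 : ∀ (X' : Over S) (x : X' ⟶ _) (a : X' ⟶ T), ∃ a' : X' ⟶ K, (x ≫ g₀) * (a ≫ i) * (x ≫ g₀)⁻¹ = a' ≫ k) :
    ∃ g : Over.mk b ⟶ G, Spec.map (CommRingCat.ofHom (Ideal.Quotient.mk J)) ≫ g.left = g₀.left ∧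
      ∀ (X' : Over S) (x : X' ⟶ _) (a : X' ⟶ T), ∃ a' : X' ⟶ K, (x ≫ g) * (a ≫ i) * (x ≫ g)⁻¹ = a' ≫ k := by
  obtain ⟨A, _, _, j, hj, ⟨e⟩⟩ := exists_model_affine (isMT_of_ft (isMultTypeFT_bc hT b))
  haveI : IsMonHom ((Over.pullback b).map i) := isMonHom_map i b
  haveI : IsMonHom ((Over.pullback b).map k) := isMonHom_map k b
  obtain ⟨g₀', hg₀⟩ := fl_surjective b G (T := Over.mk (Spec.map (CommRingCat.ofHom (Ideal.Quotient.mk J)))) g₀
  obtain ⟨g', hg1, hg2⟩ := exists_transporter_lift e hj ⟨2, hJ⟩ (MorphismProperty.pullback_snd G.hom b hG)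
    ((Over.pullback b).map k) (.inl (MorphismProperty.pullback_snd K.hom b hK)) ((Over.pullback b).map i) g₀'
    fun X p h => by
      obtain ⟨a', ha'⟩ := h0 _ ((Over.map b).map p) (fl b T h)
      obtain ⟨z, hz⟩ := fl_surjective b K a'
      refine ⟨z, fl_injective b G ?_⟩
      rw [fl_mul, fl_mul, fl_comp_map, fl_comp_map, fl_inv b G, fl_comp, hg₀, hz]
      exact ha'
  refine ⟨secOf b g', (secOf_red b g' g₀' hg1).trans (congrArg CommaMorphism.left hg₀), fun X' x a => ?_⟩
  obtain ⟨Y, i', y, hy, hg⟩ := exists_bc_point (G := G) b x a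
  obtain ⟨z, hz⟩ := hg2 Y y
  refine ⟨i'.hom ≫ fl b K z, ?_⟩
  have h2 := congrArg (fun z => i'.hom ≫ fl b G z) hz
  simp only [fl_mul, fl_comp_map, fl_inv b G, MonObj.comp_mul, GrpObj.comp_inv, hg] at h2
  rw [← Category.assoc, ← Category.assoc, hy] at h2
  exact h2

/-- The transporter of a torus into a smooth quasi-compact subgroup is closed and smooth. -/
theorem exists_transporter_smooth [Smooth G.hom] [IsSeparated G.hom] [QuasiCompact G.hom] (hT : Red.IsTorus T)
    (i : T ⟶ G) [IsMonHom i] [Mono i] (k : K ⟶ G) [IsMonHom k] [Mono k] [Smooth K.hom] [QuasiCompact K.hom] :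
    ∃ (P : Over S) (p : P ⟶ G), IsClosedImmersion p.left ∧ Smooth P.hom ∧
      ∀ (X : Over S) (g : X ⟶ G), (∃ x : X ⟶ P, x ≫ p = g) ↔
        ∀ (X' : Over S) (x : X' ⟶ X) (h : X' ⟶ T), ∃ a : X' ⟶ K, (x ≫ g) * (h ≫ i) * (x ≫ g)⁻¹ = a ≫ k := by
  have hMT := TorPts21.isMultTypeFT_of_isTorus hT
  haveI := smooth_of_torus hT
  haveI := isAffineHom_of_isMT (isMT_of_ft hMT)
  haveI : Mono k.left := Over.mono_left_of_mono k
  haveI : IsSeparated K.hom := by rw [← Over.w k]; infer_instance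
  haveI : LocallyOfFinitePresentation (k.left ≫ G.hom) := by rw [Over.w k]; infer_instance
  haveI : LocallyOfFinitePresentation k.left := SchBasic.locallyOfFinitePresentation_of_comp k.left G.hom
  haveI : QuasiCompact (k.left ≫ G.hom) := by rw [Over.w k]; infer_instance
  haveI : QuasiCompact k.left := QuasiCompact.of_comp k.left G.hom
  obtain ⟨P, p, hp, hfp, hrep⟩ := PureSmooth29.exists_transporter_subgroup (G := G)
    (PureSmooth29.neutralSet_eq_univ (connectedSpace_fibre_torus hT)) k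
    ((snd T G) * (fst T G ≫ i) * (snd T G)⁻¹) (fun T' h h' g => by
      simp only [MonObj.comp_mul, GrpObj.comp_inv, lift_snd, lift_fst_assoc, MonObj.mul_comp]
      group)
  haveI := hp
  haveI := hfp
  haveI : LocallyOfFinitePresentation P.hom := by rw [← Over.w p]; infer_instance
  have hrep' : ∀ (X : Over S) (g : X ⟶ G), (∃ x : X ⟶ P, x ≫ p = g) ↔
      ∀ (X' : Over S) (x : X' ⟶ X) (h : X' ⟶ T), ∃ a : X' ⟶ K, (x ≫ g) * (h ≫ i) * (x ≫ g)⁻¹ = a ≫ k := fun X g => by
    refine (hrep X g).trans ?_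
    simp only [MonObj.comp_mul, GrpObj.comp_inv, lift_snd, lift_fst_assoc]
  refine ⟨P, p, hp, TorusCentr19.smooth_of_lifts p fun D _ J hJ b g₀ hg₀ => ?_, hrep'⟩
  obtain ⟨g, hg1, hg2⟩ := lift_of_lift hMT ‹_› i k ‹_› D J hJ b g₀ ((hrep' _ _).1 hg₀)
  exact ⟨g, hg1, (hrep' _ _).2 hg2⟩

/-- The neutral component of a smooth group. -/
theorem exists_neutral (C : Over S) [GrpObj C] [Smooth C.hom] :
    ∃ (C₀ : Over S) (_ : GrpObj C₀) (j : C₀ ⟶ C), IsMonHom j ∧ IsOpenImmersion j.left ∧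
      Set.range j.left = SGA3x.neutralSet C ∧ Smooth C₀.hom ∧ QuasiCompact C₀.hom := by
  haveI : Smooth ((⊤ : C.left.Opens).ι ≫ C.hom) := inferInstance
  exact (GrpNeutral20.exists_openSubgroup C ⊤ fun s => trivial).2

end Groth.Agent.CartanT21
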